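import Mathlib

/-!
# A verified checker for coset enumerations with involutory generators

A certificate lists facts `(u, g, v)` meaning `g • pt u = pt v` (`g = 7` is the identity).  Each
fact is a definition, a generator of the point stabilizer, or closes a loop spelling a relator.
-/

set_option autoImplicit false

namespace Cfsg.Agent.JO

/-- evaluate `n` before passing it on -/
noncomputable def frc (n : ℕ) (f : ℕ → Bool) : Bool := Nat.rec (f 0) (fun m _ => f m.succ) n

theorem frc_eq (n : ℕ) (f : ℕ → Bool) : frc n f = f n := by cases n <;> rfl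

/-- the `i`-th entry of width `b` -/
def ent (b F i : ℕ) : ℕ := Nat.mod (Nat.shiftRight F (Nat.mul i b)) (Nat.pow 2 b)

def fu (x : ℕ) : ℕ := Nat.mod x 4096
def fv (x : ℕ) : ℕ := Nat.mod (Nat.div x 4096) 4096
def fg (x : ℕ) : ℕ := Nat.div x 16777216

/-- is the list `h :: w`?  then continue with `w` -/
noncomputable def hd (h : ℕ) (w : List ℕ) (f : List ℕ → Bool) : Bool :=
  List.rec false (fun k w' _ => and (Nat.beq h k) (f w')) w

noncomputable def nl (w : List ℕ) : Bool := List.rec true (fun _ _ _ => false) w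

/-- walk along `m` earlier facts listed in `c`, consuming the letters of `w` -/
noncomputable def walk (F j u g m : ℕ) : ℕ → List ℕ → ℕ → Bool :=
  Nat.rec (fun cur w _ => and (Nat.beq cur u) (or (hd g w nl) (and (Nat.beq g 7) (nl w))))
    (fun _ ih cur w c => frc (Nat.mod c 8192) fun i => and (Nat.blt i j) <|
      frc (ent 27 F i) fun x => frc (fu x) fun a => frc (fv x) fun b => frc (fg x) fun h =>
      frc (Nat.div c 8192) fun c' => cond (Nat.beq cur a)
        (cond (Nat.beq h 7) (ih b w c') (hd h w fun w' => ih b w' c'))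
        (and (Nat.beq cur b) (cond (Nat.beq h 7) (ih a w c') (hd h w fun w' => ih a w' c')))) m

theorem walk_succ (F j u g m cur : ℕ) (w : List ℕ) (c : ℕ) : walk F j u g (m + 1) cur w c =
    frc (Nat.mod c 8192) fun i => and (Nat.blt i j) <|
      frc (ent 27 F i) fun x => frc (fu x) fun a => frc (fv x) fun b => frc (fg x) fun h =>
      frc (Nat.div c 8192) fun c' => cond (Nat.beq cur a)
        (cond (Nat.beq h 7) (walk F j u g m b w c') (hd h w fun w' => walk F j u g m b w' c'))
        (and (Nat.beq cur b) (cond (Nat.beq h 7) (walk F j u g m a w c')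
          (hd h w fun w' => walk F j u g m a w' c'))) := rfl

noncomputable def nth (R : List (List ℕ)) : ℕ → List ℕ :=
  List.rec (fun _ => []) (fun r _ ih n => Nat.rec r (fun m _ => ih m) n) R

noncomputable def app (v w : List ℕ) : List ℕ := List.rec w (fun a _ ih => a :: ih) v

/-- rotate by `k` places -/
noncomputable def rot (k : ℕ) : List ℕ → List ℕ :=
  Nat.rec id (fun _ ih w => List.rec [] (fun a w' _ => ih (app w' [a])) w) k

noncomputable def mem (g : ℕ) (S : List ℕ) : Bool :=
  List.rec false (fun a _ ih => or (Nat.beq g a) ih) S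

/-- the check of the `j`-th fact -/
noncomputable def step (R : List (List ℕ)) (S : List ℕ) (D F P b j : ℕ) : Bool :=
  frc j fun j => frc (ent 27 F j) fun x => frc (fu x) fun u => frc (fv x) fun v =>
  frc (fg x) fun g => frc (ent b P j) fun p => cond (Nat.beq p 0)
    (and (Nat.blt u v) (Nat.beq (ent 15 D v) (Nat.add (Nat.mul g 4096) u)))
    (cond (Nat.beq p 1) (and (Nat.beq u 0) (and (Nat.beq v 0) (mem g S)))
      (walk F j u g (Nat.mod p 64) v (rot (Nat.mod (Nat.div p 64) 32)
        (nth R (Nat.mod (Nat.div p 2048) 32))) (Nat.div p 65536)))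

/-- `f` holds on `lo, …, lo + 2 ^ d - 1` -/
noncomputable def rng (f : ℕ → Bool) (d : ℕ) : ℕ → Bool :=
  Nat.rec f (fun d ih lo => and (ih lo) (ih (Nat.add lo (Nat.pow 2 d)))) d

noncomputable def upto (f : ℕ → Bool) (d n : ℕ) : Bool :=
  and (Nat.ble n (Nat.pow 2 d)) (rng (fun j => or (Nat.ble n j) (f j)) d 0)

theorem rng_spec {f : ℕ → Bool} (d : ℕ) : ∀ lo, rng f d lo = true → ∀ j < 2 ^ d, f (lo + j) = true := by
  induction d with
  | zero => intro lo h j hj; obtain rfl : j = 0 := by simpa using hj
            exact h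
  | succ d ih =>
    intro lo h j hj
    have h' : (rng f d lo && rng f d (lo + 2 ^ d)) = true := h
    rw [Bool.and_eq_true] at h'
    by_cases e : j < 2 ^ d
    · exact ih lo h'.1 j e
    · have := ih _ h'.2 (j - 2 ^ d) (by omega)
      rwa [show lo + 2 ^ d + (j - 2 ^ d) = lo + j by omega] at this

theorem upto_spec {f : ℕ → Bool} {d n : ℕ} (h : upto f d n = true) : ∀ j < n, f j = true := by
  intro j hj
  have h' : (Nat.ble n (2 ^ d) && rng (fun j => Nat.ble n j || f j) d 0) = true := h
  rw [Bool.and_eq_true, Nat.ble_eq] at h'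
  have := rng_spec d 0 h'.2 j (by omega)
  rw [Bool.or_eq_true, Nat.ble_eq, zero_add] at this
  exact this.resolve_left (by omega)

variable {X : Type*} (ap : ℕ → X → X)

def run (w : List ℕ) (x : X) : X := w.foldl (fun x h => ap h x) x

/-- the points named by the definitions -/
def pt (x0 : X) (D v : ℕ) : X :=
  if _h : ent 15 D v % 4096 < v then ap (ent 15 D v / 4096) (pt x0 D (ent 15 D v % 4096)) else x0
termination_by v

theorem pt_zero (x0 : X) (D : ℕ) : pt ap x0 D 0 = x0 := by rw [pt, dif_neg (Nat.not_lt_zero _)]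

/-- the `i`-th fact -/
def Hold (p : ℕ → X) (F i : ℕ) : Prop :=
  ap (fg (ent 27 F i)) (p (fu (ent 27 F i))) = p (fv (ent 27 F i))

variable {ap} (h2 : ∀ g x, ap g (ap g x) = x) (h7 : ∀ x, ap 7 x = x)

theorem hd_spec {h : ℕ} {w : List ℕ} {f : List ℕ → Bool} (e : hd h w f = true) :
    ∃ w', w = h :: w' ∧ f w' = true := by
  cases w with
  | nil => exact absurd e (by simp [hd])
  | cons k w' =>
    have e' : (Nat.beq h k && f w') = true := e
    rw [Bool.and_eq_true, Nat.beq_eq] at e'
    exact ⟨w', by rw [e'.1], e'.2⟩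

theorem nl_spec {w : List ℕ} (e : nl w = true) : w = [] := by
  cases w with
  | nil => rfl
  | cons k w' => exact absurd e (by simp [nl])

include h2 h7 in
theorem walk_spec {p : ℕ → X} {F j u g : ℕ} (H : ∀ i < j, Hold ap p F i) (m : ℕ) :
    ∀ cur w c, walk F j u g m cur w c = true → ap g (p u) = run ap w (p cur) := by
  induction m with
  | zero =>
    intro cur w c e
    have e' : (Nat.beq cur u && (hd g w nl || (Nat.beq g 7 && nl w))) = true := e
    simp only [Bool.and_eq_true, Bool.or_eq_true, Nat.beq_eq] at e'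
    obtain ⟨rfl, e' | ⟨rfl, e'⟩⟩ := e'
    · obtain ⟨w', rfl, e''⟩ := hd_spec e'
      rw [nl_spec e'']; rfl
    · rw [nl_spec e', h7]; rfl
  | succ m ih =>
    intro cur w c e
    have key : ∀ a b h c', ap h (p a) = p b → cond (Nat.beq h 7) (walk F j u g m b w c')
        (hd h w fun w' => walk F j u g m b w' c') = true → ap g (p u) = run ap w (p a) := by
      intro a b h c' e1 e2
      cases e3 : Nat.beq h 7 with
      | true =>
        rw [e3, cond_true] at e2
        rw [Nat.eq_of_beq_eq_true e3, h7] at e1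
        rw [e1]; exact ih _ _ _ e2
      | false =>
        rw [e3, cond_false] at e2
        obtain ⟨w', rfl, e4⟩ := hd_spec e2
        rw [ih _ _ _ e4, ← e1]; rfl
    simp only [walk_succ, frc_eq, Bool.and_eq_true, Nat.blt_eq] at e
    have h := H _ e.1
    replace e := e.2
    cases e3 : Nat.beq cur (fu (ent 27 F (Nat.mod c 8192))) with
    | true =>
      rw [e3, cond_true] at e
      rw [Nat.eq_of_beq_eq_true e3]
      exact key _ _ _ _ h e
    | false =>
      rw [e3, cond_false, Bool.and_eq_true, Nat.beq_eq] at e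
      rw [e.1]
      exact key _ _ _ _ (by rw [← h, h2]) e.2

theorem app_eq (v w : List ℕ) : app v w = v ++ w := by
  induction v with
  | nil => rfl
  | cons a v ih => exact congrArg (a :: ·) ih

include h2 in
theorem rot_spec (k : ℕ) : ∀ w, (∀ x, run ap w x = x) → ∀ x, run ap (rot k w) x = x := by
  induction k with
  | zero => exact fun w h => h
  | succ k ih =>
    intro w h
    cases w with
    | nil => exact fun _ => rfl
    | cons a w =>
      refine ih (app w [a]) fun x => ?_
      have := h (ap a x)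
      simp only [run, List.foldl_cons, h2] at this
      simp only [app_eq, run, List.foldl_append, List.foldl_cons, List.foldl_nil, this, h2]

theorem nth_spec {R : List (List ℕ)} (h : ∀ r ∈ R, ∀ x, run ap r x = x) :
    ∀ n x, run ap (nth R n) x = x := by
  induction R with
  | nil => exact fun _ _ => rfl
  | cons r R ih =>
    intro n
    cases n with
    | zero => exact h r (by simp)
    | succ n => exact ih (fun r hr => h r (by simp [hr])) n

theorem mem_spec {g : ℕ} {S : List ℕ} (h : mem g S = true) : g ∈ S := by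
  induction S with
  | nil => exact absurd h (by simp [mem])
  | cons a S ih =>
    have h' : (Nat.beq g a || mem g S) = true := h
    rw [Bool.or_eq_true, Nat.beq_eq] at h'
    exact List.mem_cons.2 (h'.imp_right ih)

include h2 h7 in
theorem check_spec {R : List (List ℕ)} {S : List ℕ} {x0 : X} {D F P b d n : ℕ}
    (hR : ∀ r ∈ R, ∀ x, run ap r x = x) (hS : ∀ g ∈ S, ap g x0 = x0)
    (h : upto (step R S D F P b) d n = true) (j : ℕ) : j < n → Hold ap (pt ap x0 D) F j := by
  induction j using Nat.strong_induction_on with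
  | _ j ih =>
  intro hj
  have e := upto_spec h j hj
  simp only [step, frc_eq] at e
  unfold Hold
  cases e0 : Nat.beq (ent b P j) 0 with
  | true =>
    rw [e0, cond_true, Bool.and_eq_true, Nat.blt_eq, Nat.beq_eq] at e
    have e1 : fu (ent 27 F j) < 4096 := Nat.mod_lt _ (by decide)
    have e2 : ent 15 D (fv (ent 27 F j)) = fg (ent 27 F j) * 4096 + fu (ent 27 F j) := e.2
    have e3 : ent 15 D (fv (ent 27 F j)) % 4096 = fu (ent 27 F j) := by omega
    have e4 : ent 15 D (fv (ent 27 F j)) / 4096 = fg (ent 27 F j) := by omega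
    rw [pt.eq_def ap x0 D (fv _), e3, e4, dif_pos e.1]
  | false =>
    rw [e0, cond_false] at e
    cases e1 : Nat.beq (ent b P j) 1 with
    | true =>
      simp only [e1, cond_true, Bool.and_eq_true, Nat.beq_eq] at e
      rw [e.1, e.2.1, pt_zero]
      exact hS _ (mem_spec e.2.2)
    | false =>
      rw [e1, cond_false] at e
      rw [walk_spec h2 h7 (fun i hi => ih i hi (hi.trans hj)) _ _ _ _ e,
        rot_spec h2 _ _ (nth_spec hR _)]

/-- a certificate that the word `W` fixes the base point -/
noncomputable def Cert (R : List (List ℕ)) (S W : List ℕ) (D F P b d n m c : ℕ) : Bool :=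
  and (upto (step R S D F P b) d n) (walk F n 0 7 m 0 W c)

include h2 h7 in
theorem cert_spec {R : List (List ℕ)} {S W : List ℕ} {x0 : X} {D F P b d n m c : ℕ}
    (hR : ∀ r ∈ R, ∀ x, run ap r x = x) (hS : ∀ g ∈ S, ap g x0 = x0)
    (h : Cert R S W D F P b d n m c = true) : run ap W x0 = x0 := by
  rw [Cert, Bool.and_eq_true] at h
  have := walk_spec h2 h7 (check_spec h2 h7 hR hS h.1) _ _ _ _ h.2
  rw [h7, pt_zero] at this
  exact this.symm

/-- the completed table: `I` lists the facts giving the images -/
def tab (F I g u : ℕ) : ℕ :=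
  cond (Nat.beq u (fu (ent 27 F (ent 13 I (Nat.add (Nat.mul u 5) g)))))
    (fv (ent 27 F (ent 13 I (Nat.add (Nat.mul u 5) g)))) (fu (ent 27 F (ent 13 I (Nat.add (Nat.mul u 5) g))))

noncomputable def tabOk (F I n N k : ℕ) : Bool :=
  frc k fun k => frc (ent 13 I k) fun i => frc (ent 27 F i) fun x => and (Nat.blt i n) <|
    and (Nat.beq (fg x) (Nat.mod k 5)) <| and (Nat.blt (fu x) N) <| and (Nat.blt (fv x) N) <|
      or (Nat.beq (Nat.div k 5) (fu x)) (Nat.beq (Nat.div k 5) (fv x))

include h2 in
theorem tab_spec {p : ℕ → X} {F I n N d : ℕ} (H : ∀ i < n, Hold ap p F i)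
    (h : upto (tabOk F I n N) d (N * 5) = true) {u g : ℕ} (hu : u < N) (hg : g < 5) :
    tab F I g u < N ∧ ap g (p u) = p (tab F I g u) := by
  have e := upto_spec h (u * 5 + g) (by omega)
  simp only [tabOk, frc_eq, Bool.and_eq_true, Bool.or_eq_true, Nat.blt_eq, Nat.beq_eq] at e
  obtain ⟨e1, e2, e3, e4, e5⟩ := e
  have e6 := H _ e1
  rw [show Nat.mod (u * 5 + g) 5 = g from by change (u * 5 + g) % 5 = g; omega] at e2
  rw [show Nat.div (u * 5 + g) 5 = u from by change (u * 5 + g) / 5 = u; omega] at e5
  rw [Hold, e2] at e6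
  unfold tab
  change cond (Nat.beq u (fu (ent 27 F (ent 13 I (u * 5 + g))))) _ _ < N ∧
    _ = p (cond (Nat.beq u (fu (ent 27 F (ent 13 I (u * 5 + g))))) _ _)
  cases e7 : Nat.beq u (fu (ent 27 F (ent 13 I (u * 5 + g)))) with
  | true =>
    rw [cond_true]
    exact ⟨e4, by nth_rewrite 1 [Nat.eq_of_beq_eq_true e7]; exact e6⟩
  | false =>
    rw [cond_false]
    refine ⟨e3, ?_⟩
    nth_rewrite 1 [e5.resolve_left (Nat.ne_of_beq_eq_false e7), ← e6]
    exact h2 _ _

end Cfsg.Agent.JO
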