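import Cfsg.Agent.Lib.JO.Local
import Cfsg.Agent.Lib.Perm.FourGroup

/-!
# Generators and relations for a simple group of order `175560`
-/

set_option autoImplicit false

namespace Cfsg.Agent.JO

open Subgroup Cfsg.Agent.OO Cfsg.Agent.Coprime GW ZG
open scoped commutatorElement Pointwise

universe u

variable {G : Type u} [Group G] [Finite G] {K : Subgroup G} {a f g k t y z : G} {κ : G → ℕ}

theorem nums' : ∀ i < 1464, 1463 % i = 0 → i % 5 = 1 → i < 19 := by decide +kernel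

omit [Finite G] in
theorem all_rels {γ : ℕ → G} (sq : ∀ i, γ i * γ i = 1) (h01 : ev γ [0, 1, 0, 1, 0, 1] 1 = 1)
    (h02 : γ 0 * γ 2 = γ 2 * γ 0) (h03 : γ 0 * γ 3 = γ 3 * γ 0) (h04 : γ 0 * γ 4 = γ 4 * γ 0)
    (h12 : ev γ [1, 2, 1, 2, 1, 2, 1, 2, 1, 2] 1 = 1) (h13 : γ 1 * γ 3 = γ 3 * γ 1)
    (h14 : γ 1 * γ 4 = γ 4 * γ 1) (h23 : ev γ [2, 3, 2, 3, 2, 3] 1 = 1) (h24 : γ 2 * γ 4 = γ 4 * γ 2)
    (h34 : ev γ [3, 4, 3, 4, 3, 4, 3, 4, 3, 4] 1 = 1) : (∀ w ∈ rels3, ev γ w 1 = 1) ∧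
    ∀ {p q r}, ev γ p 1 = 1 → ev γ q 1 = 1 → ev γ r 1 = 1 → ∀ w ∈ rels p q r, ev γ w 1 = 1 := by
  have s : ∀ i, ev γ [i, i] 1 = 1 := fun i => by simp [ev_cons, ev_nil, sq]
  simp only [rels, rels3, List.forall_mem_cons, List.not_mem_nil, false_imp_iff, implies_true, and_true]
  exact ⟨⟨rfl, rfl, s 0, s 1, s 2, s 3, s 4, h12, h23, ev_of_comm sq h13⟩, fun hp hq hr =>
    ⟨rfl, rfl, s 0, s 1, s 2, s 3, s 4, h01, ev_of_comm sq h02, ev_of_comm sq h03, ev_of_comm sq h04,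
      h12, ev_of_comm sq h13, ev_of_comm sq h14, h23, ev_of_comm sq h24, h34, hp, hq, hr⟩⟩

variable [IsSimpleGroup G] (hG : Nat.card G = 175560)
include hG

theorem no_swap (a2 : a * a = 1) (z2 : z * z = 1) (hc : a * z = z * a) (h1 : k * a * k⁻¹ = z)
    (h2 : k * z * k⁻¹ = a) : a = z := by
  obtain ⟨e, m, ⟨j, hj⟩, hm⟩ := Nat.exists_eq_two_pow_mul_odd (orderOf_pos k).ne'
  have s2 : (k ^ m) ^ 2 = 1 := E8.sq_eq_one_of_pow (four hG) (k := e) (by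
    rw [← pow_mul, mul_comm, ← hm, pow_orderOf_eq_one])
  have c : (k ^ 2) ^ j ∈ 𝐂[a] := pow_mem (mem_cent1_iff_conj.2 (by
    rw [show k ^ 2 * a * (k ^ 2)⁻¹ = k * (k * a * k⁻¹) * k⁻¹ by simp [pow_two, mul_assoc], h1, h2])) j
  have s1 : k ^ m * a * (k ^ m)⁻¹ = z := by
    rw [hj, pow_succ', pow_mul, mul_inv_rev, ← h1]
    nth_rewrite 2 [← mem_cent1_iff_conj.1 c]
    simp only [mul_assoc]
  rw [inv_eq ((sq _).symm.trans s2)] at s1
  have e1 : (k ^ m * a) ^ 2 = z * a := by rw [sq, ← s1]; simp only [mul_assoc]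
  have e2 := four hG (k ^ m * a) (by
    rw [show 4 = 2 * 2 from rfl, pow_mul, e1, sq, mul_assoc, ← mul_assoc a, hc, mul_assoc, a2, mul_one, z2])
  rw [e1] at e2
  rw [eq_inv_of_mul_eq_one_right e2, inv_eq z2]

variable (z1 : z ≠ 1) (z2 : z * z = 1) (h : Mdl z κ)
include z1 z2 h

theorem orient (ha : a ∈ 𝐂[z]) (az : a ≠ z) (hg : g * z * g⁻¹ = a) :
    ¬ (κ (g⁻¹ * z * g) < 60 ↔ κ a < 60) := fun e => by
  have a2 : a * a = 1 := hg ▸ conj_sq z2 g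
  have m : g⁻¹ * z * g ∈ 𝐂[z] := by
    rw [← mem_conj, ← cent1_conj, hg]; exact mem_cent1_comm.1 ha
  obtain ⟨j, hj, e'⟩ := M1 _ (h.lt _ ha) ((h.sq_iff ha).2 a2)
    (mt (h.zero_iff ha).1 (hg ▸ BSW.conj_ne_one z1)) (mt (h.top_iff ha).1 az) _ (h.lt _ m)
    ((h.sq_iff m).2 (by simpa using conj_sq z2 g⁻¹)) (mt (h.zero_iff m).1
      (by simpa using BSW.conj_ne_one (g := g⁻¹) z1))
    (mt (h.top_iff m).1 fun e => az (by rw [← hg]; nth_rewrite 1 [← e]; group)) e.symm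
  obtain ⟨x, hx, rfl⟩ := h.surj j hj
  rw [← h.mul _ hx _ ha, ← h.mul _ m _ hx, h.eq_iff (mul_mem hx ha) (mul_mem m hx)] at e'
  refine az (no_swap hG (k := g * x) a2 z2 (mem_cent1.1 ha) ?_ ?_)
  · rw [mul_assoc g, e']; group
  · rw [← hg, mul_assoc g, mem_cent1.1 hx]; group

theorem five : ∃ f y a : G, f ∈ 𝐂[z] ∧ orderOf f = 5 ∧ orderOf y = 3 ∧ y ∈ 𝐂[f] ∧
    z * y * z⁻¹ = y⁻¹ ∧ a ∈ 𝐂[z] ∧ a * a = 1 ∧ a * f * a⁻¹ = f⁻¹ ∧ a ∈ 𝐂[y] ∧
    ♯𝐍(zpowers f) = 60 := by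
  have : Fact (Nat.Prime 5) := ⟨by decide⟩
  obtain ⟨f, hf, f5⟩ := cauchy (p := 5) (H := 𝐂[z]) (by decide)
    (by rw [(exists_model hG z1 z2).1]; decide)
  have f1 : f ≠ 1 := fun e => by simp [e] at f5
  have fo : Odd (orderOf f) := by rw [f5]; decide
  obtain ⟨H, j, hj, j1, j2⟩ := M2 _ (h.lt _ hf) ((h.pow_iff hf 5).2 (f5 ▸ pow_orderOf_eq_one f))
    (mt (h.zero_iff hf).1 f1)
  obtain ⟨s, hs, rfl⟩ := h.surj j hj
  rw [h.sq_iff hs] at j1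
  rw [← h.mul _ hs _ hf, h.sq_iff (mul_mem hs hf)] at j2
  have sf : s * f * s⁻¹ = f⁻¹ := by
    rw [inv_eq j1, eq_inv_iff_mul_eq_one, mul_assoc, j2]
  have zf : z ∈ 𝐂[f] := mem_cent1_comm.1 hf
  have sC := not_cent_of_inv fo f1 sf
  have hS : Syl 2 (zpowers z) 𝐂[f] := by
    obtain ⟨S, hS, hle⟩ := exists_syl_ge (zpowers_le.2 zf) (two_elt z2)
    refine le_antisymm hle (fun x hx => (mem_zp z2).2 ?_) ▸ hS
    have hx' := two_le_cent hG hS.isPGroup (hle (mem_zpowers z)) hx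
    exact ((H _ (h.lt _ hx') ((h.comm_iff hx' hf).2 (mem_cent1.1 (hS.le hx)))).1
      ((h.sq_iff hx').2 (sq_of_two hG hS.isPGroup x hx))).imp (h.zero_iff hx').1 (h.top_iff hx').1
  have hp := pnil_of_cyc hS
  have c1 := (hp.sdprod hS).card
  rw [E8.card_zpowers_two z1 z2] at c1
  have nN : 𝐍(zpowers f) ≤ 𝐍(O 𝐂[f]) := le_norm_Opi _ (cent_normal f).norm
  have zN := (cent_normal f).le zf
  have sN : s ∈ 𝐍(zpowers f) := mem_norm_zp (sf ▸ inv_mem (mem_zpowers f))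
  have bw := Perm.card_mul_sq_of_four_group (odd_O 𝐂[f]) z2 j1 (mem_cent1.1 hs).symm
    (fun x hx => conj_mem_of_norm (nN zN) hx) fun x hx => conj_mem_of_norm (nN sN) hx
  have d15 : ∀ t : G, t ≠ 1 → t * t = 1 → ♯(O 𝐂[f] ⊓ 𝐂[t]) ∣ 15 := fun t t1 t2 =>
    ((Nat.coprime_two_right.2 (odd_of_le (odd_O _) inf_le_left)).pow_right 3).dvd_of_dvd_mul_left
      ((card_dvd inf_le_right).trans (exists_model hG t1 t2).1.dvd)
  have zs2 : z * s * (z * s) = 1 := by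
    rw [mul_assoc, ← mul_assoc s, mem_cent1.1 hs, mul_assoc, j1, mul_one, z2]
  have zsC : z * s ∉ 𝐂[f] := by rwa [mul_mem_cancel_left zf]
  have c2 : ♯(O 𝐂[f]) ∣ 15 := by
    have := Nat.dvd_gcd ((Dvd.intro _ bw).trans (mul_dvd_mul (mul_dvd_mul (d15 z z1 z2)
      (d15 s (fun e => sC (e ▸ one_mem _)) j1)) (d15 _ (fun e => zsC (e ▸ one_mem _)) zs2)))
      (hG ▸ card_subgroup_dvd_card (O 𝐂[f]))
    exact this
  have fO : f ∈ O 𝐂[f] := (mem_O hp).2 ⟨mem_cent1_self f, fo⟩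
  have c3 := f5 ▸ orderOf_dvd_card fO
  have c4 := card_mul_relIndex (cent_normal f).le
  have c5 := Ord1092.relIndex_cent_dvd (P := zpowers f) inferInstance
  rw [cent_zpowers, Nat.card_zpowers, f5, Nat.totient_prime (by decide)] at c5
  have c6 : 𝐂[f].relIndex 𝐍(zpowers f) ≠ 1 := fun e => sC (relIndex_eq_one.1 e sN)
  obtain ⟨n, n1, n2⟩ := Ord1092.exists_count (p := 5) (P := zpowers f) (K := ⊤)
    ⟨le_top, Core.isPGroup_zpowers_of_orderOf (k := 1) f5, fun e => by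
      have := (zpowers f).card_mul_index
      rw [relIndex_top_right] at e
      rw [Nat.card_zpowers, f5, hG] at this
      omega⟩
  rw [inf_top_eq, card_top, hG] at n2
  have c7 : ♯(O 𝐂[f]) = 15 ∧ ♯𝐍(zpowers f) = 60 := by
    have b1 := Nat.le_of_dvd (by decide) c2
    have b2 := Nat.le_of_dvd (by decide) c5
    rw [← c1] at c4
    rw [← c4] at n2 ⊢
    generalize ♯(O 𝐂[f]) = o at *
    generalize 𝐂[f].relIndex 𝐍(zpowers f) = e at *
    interval_cases o <;> interval_cases e <;> omega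
  obtain ⟨y, hy, y3⟩ := cauchy (p := 3) (H := O 𝐂[f]) (by decide) (by rw [c7.1]; decide)
  have yf : y ∈ 𝐂[f] := Opi_le _ _ hy
  have Oy : O 𝐂[f] ≤ 𝐂[y] := by
    refine inf_eq_left.1 (eq_of_le_of_card_le inf_le_left (Nat.le_of_dvd (card_pos' _) ?_))
    have a1 := f5 ▸ orderOf_dvd_card (H := O 𝐂[f] ⊓ 𝐂[y]) ⟨fO, mem_cent1_comm.1 yf⟩
    have a2 := y3 ▸ orderOf_dvd_card (H := O 𝐂[f] ⊓ 𝐂[y]) ⟨hy, mem_cent1_self y⟩
    rw [c7.1]; omega
  have key : ∀ u ∈ 𝐍(zpowers f), u * u = 1 → u * y * u⁻¹ = y ∨ u * y * u⁻¹ = y⁻¹ := fun u hu u2 =>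
    conj_cases (by rw [y3]; decide) ((cyc hG.dvd).zp_eq (x := u * y * u⁻¹) Nat.prime_three
      (by decide) (by rw [orderOf_conj, y3]) y3 (by
        rw [mem_cent1_iff_conj.1 (Oy (conj_mem_of_norm (nN hu) hy))]; exact mem_zpowers y) ▸
        mem_zpowers _) (by rw [u2, one_mul, mul_one])
  have zy : z * y * z⁻¹ = y⁻¹ := (key z zN z2).resolve_left fun e => by
    have hy' := mem_cent1_comm.1 (mem_cent1_iff_conj.2 e)
    have := (h.zero_iff hy').1 ((H _ (h.lt _ hy') ((h.comm_iff hy' hf).2 (mem_cent1.1 yf))).2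
      ((h.pow_iff hy' 3).2 (y3 ▸ pow_orderOf_eq_one y)))
    simp [this] at y3
  rcases key s sN j1 with e | e
  · exact ⟨f, y, s, hf, f5, y3, yf, zy, hs, j1, sf, mem_cent1_iff_conj.2 e, c7.2⟩
  · refine ⟨f, y, z * s, hf, f5, y3, yf, zy, mul_mem (mem_cent1_self z) hs, zs2, ?_,
      mul_mem_cent zy e, c7.2⟩
    rw [show z * s * f * (z * s)⁻¹ = z * (s * f * s⁻¹) * z⁻¹ by group, sf, ← _root_.conj_inv,
      mem_cent1_iff_conj.1 zf]

omit h in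
theorem top_of (hf : f ∈ 𝐂[z]) (f5 : orderOf f = 5) (y3 : orderOf y = 3) (yf : y ∈ 𝐂[f]) (ha : a ∈ 𝐂[z])
    (a2 : a * a = 1) (af : a * f * a⁻¹ = f⁻¹) (hN : ♯𝐍(zpowers f) = 60) (hK : 𝐂[z] ≤ K) (hy : y ∈ K) :
    K = ⊤ := by
  have : Fact (Nat.Prime 5) := ⟨by decide⟩
  by_contra e
  have aC := not_cent_of_inv (by rw [f5]; decide) (fun e => by simp [e] at f5) af
  have zf : z ∈ 𝐂[f] := mem_cent1_comm.1 hf
  have a1 := f5 ▸ orderOf_dvd_card (H := 𝐍(zpowers f) ⊓ K) ⟨le_norm_self _ (mem_zpowers f), hK hf⟩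
  have a3 := y3 ▸ orderOf_dvd_card (H := 𝐍(zpowers f) ⊓ K) ⟨(cent_normal f).le yf, hy⟩
  have a4 := (pair_mk (v := a) z1 (fun e => aC (e ▸ one_mem _)) (fun e => aC (e ▸ zf)) z2 a2
    (mem_cent1.1 ha).symm).card ▸ card_dvd (K := 𝐍(zpowers f) ⊓ K) (S4_le.2
      ⟨⟨(cent_normal f).le zf, hK (mem_cent1_self z)⟩, mem_norm_zp (af ▸ inv_mem (mem_zpowers f)), hK ha⟩)
  have a5 := Nat.le_of_dvd (by decide) (hN ▸ card_dvd (inf_le_left : 𝐍(zpowers f) ⊓ K ≤ _))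
  have a6 := card_pos' (𝐍(zpowers f) ⊓ K)
  have a7 : ♯(𝐍(zpowers f) ⊓ K) = 60 := by omega
  have k1 := K.card_mul_index
  obtain ⟨n, n1, n2⟩ := Ord1092.exists_count (p := 5) (P := zpowers f) (K := K)
    ⟨zpowers_le.2 (hK hf), Core.isPGroup_zpowers_of_orderOf (k := 1) f5, fun e => by
      have := card_mul_relIndex (zpowers_le.2 (hK hf))
      have h2 := hG ▸ card_subgroup_dvd_card K
      rw [Nat.card_zpowers, f5] at this
      exact absurd (((mul_dvd_mul_left 5 e).trans this.dvd).trans h2) (by decide)⟩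
  obtain ⟨m, hm⟩ := (exists_model hG z1 z2).1 ▸ card_dvd hK
  rw [hm, hG, mul_assoc] at k1
  rw [a7] at n2
  have k2 : m * K.index = 1463 := by omega
  have k3 := Nat.mul_mod m K.index 5
  have := nums' K.index (Nat.lt_succ_of_le (Nat.le_of_dvd (by decide) (Dvd.intro_left _ k2)))
    (k2 ▸ Nat.mul_mod_left _ _) (by
      rw [k2, show m % 5 = 3 by omega] at k3
      omega)
  have := le_index hG e
  omega

omit z1 z2 h in
theorem gens : ∃ γ : ℕ → G, (∀ i, γ i * γ i = 1) ∧ γ 7 = 1 ∧ γ 4 ≠ 1 ∧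
    (∀ w ∈ rels xI yI w0, ev γ w 1 = 1) ∧ ∀ K : Subgroup G, (∀ i < 5, γ i ∈ K) → K = ⊤ := by
  obtain ⟨z, hz⟩ := exists_prime_orderOf_dvd_card' (G := G) 2 (by omega)
  obtain ⟨z2, z1⟩ := orderOf_eq_prime_iff.1 hz
  rw [sq] at z2
  obtain ⟨cz, κ, h⟩ := exists_model hG z1 z2
  obtain ⟨f, y, a, hf, f5, y3, yf, zy, ha, a2, af, ay, hN⟩ := five hG z1 z2 h
  have f1 : f ≠ 1 := fun e => by simp [e] at f5
  have aC := not_cent_of_inv (by rw [f5]; decide) f1 af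
  have a1 : a ≠ 1 := fun e => aC (e ▸ one_mem _)
  have az : a ≠ z := fun e => aC (e ▸ mem_cent1_comm.1 hf)
  obtain ⟨g, hg⟩ := conj_inv hG z1 z2 a1 a2
  have ori := orient hG z1 z2 h ha az hg
  have h' := h.conj g
  rw [hg] at h'
  set κ' := fun x => κ (g⁻¹ * x * g) with hκ'
  change ¬ (κ' z < 60 ↔ _) at ori
  clear_value κ'
  have za := mem_cent1_comm.1 ha
  have da : z * y ∈ 𝐂[a] := mul_mem za (mem_cent1_comm.1 ay)
  have d2 : z * y * (z * y) = 1 := by rw [← mul_assoc]; nth_rewrite 2 [← inv_eq z2]; rw [zy]; simp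
  have zd : z * (z * y) = y := by rw [← mul_assoc, z2, one_mul]
  obtain ⟨c, ca, q3, cz, par⟩ : ∃ c ∈ 𝐂[a], Q3 (κ' z) (κ' (z * y)) (κ' c) ∧ c ∈ 𝐂[z] ∧
      (κ a < 60 ↔ κ c < 60) := by
    obtain ⟨j, hj, q1, q2⟩ := M3 _ (h'.lt _ za) ((h'.sq_iff za).2 z2) _ (h'.lt _ da)
      ((h'.sq_iff da).2 d2) (mt (h'.eq_iff za da).1 fun e => by simp [left_eq_mul.1 e] at y3) (by
        rw [← h'.mul _ za _ da, zd, h'.pow_iff (mem_cent1_comm.1 ay), ← y3, pow_orderOf_eq_one])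
    obtain ⟨c, hc, rfl⟩ := h'.surj j hj
    have m : ∀ c ∈ 𝐂[a], Q3 (κ' z) (κ' (z * y)) (κ' c) → c ∈ 𝐂[z] := fun c hc q =>
      mem_cent1.2 ((h'.comm_iff za hc).1 q.2.1).symm
    by_cases e : κ a < 60 ↔ κ c < 60
    · exact ⟨c, hc, q1, m c hc q1, e⟩
    obtain ⟨w, w1, w2, w3, w4⟩ : ∃ w ∈ 𝐂[a], w ∈ 𝐂[z] ∧ ¬ κ w < 60 ∧
        (if κ' z < 60 then κ' z else mu (κ' z) 60) = κ' w := by
      by_cases e' : κ' z < 60
      · exact ⟨z, za, mem_cent1_self z, by rw [h.top]; decide, if_pos e'⟩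
      · refine ⟨z * a, mul_mem za (mem_cent1_self a), mul_mem (mem_cent1_self z) ha, ?_,
          by rw [if_neg e', h'.mul_top za]⟩
        rw [h.mul _ (mem_cent1_self z) _ ha, par_mul _ (h.lt _ (mem_cent1_self z)) _ (h.lt _ ha), h.top]
        tauto
    rw [w4, ← h'.mul _ hc _ w1] at q2
    refine ⟨_, mul_mem hc w1, q2, m _ (mul_mem hc w1) q2, ?_⟩
    rw [h.mul _ (m c hc q1) _ w2, par_mul _ (h.lt _ (m c hc q1)) _ (h.lt _ w2)]
    tauto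
  obtain ⟨c2, -, c1, cz', ca', cza, r12, rx⟩ := q3
  rw [h'.sq_iff ca] at c2
  rw [Ne, h'.zero_iff ca] at c1
  rw [Ne, h'.eq_iff ca za] at cz'
  rw [Ne, h'.top_iff ca] at ca'
  rw [Ne, h'.mul_top za, h'.eq_iff ca (mul_mem za (mem_cent1_self a))] at cza
  obtain ⟨i, -, q4⟩ := M4 _ (h.lt _ ha) ((h.sq_iff ha).2 a2) _ (h.lt _ hf) (by
      rw [← h.mul _ ha _ hf, h.sq_iff (mul_mem ha hf), ← mul_assoc]
      nth_rewrite 2 [← inv_eq a2]
      rw [af, inv_mul_cancel])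
    ((h.pow_iff hf 5).2 (f5 ▸ pow_orderOf_eq_one f)) (mt (h.zero_iff hf).1 f1) _ (h.lt _ cz)
    ((h.sq_iff cz).2 c2) ((h.comm_iff ha cz).2 (mem_cent1.1 ca).symm) (mt (h.zero_iff cz).1 c1)
    (mt (h.eq_iff cz ha).1 ca') (mt (h.top_iff cz).1 cz') (by
      rw [Ne, h.mul_top ha, h.eq_iff cz (mul_mem ha (mem_cent1_self z)), mem_cent1.1 ha]; exact cza) par
  have bz : a * f ^ i ∈ 𝐂[z] := mul_mem ha (pow_mem hf i)
  rw [h.pow hf, ← h.mul _ ha _ (pow_mem hf i)] at q4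
  have b2 : a * f ^ i * (a * f ^ i) = 1 := by
    rw [← mul_assoc]
    nth_rewrite 2 [← inv_eq a2]
    rw [inv_of_mem af (pow_mem (mem_zpowers f) i), inv_mul_cancel]
  have by' : a * f ^ i ∈ 𝐂[y] := mul_mem ay (pow_mem (mem_cent1_comm.1 yf) i)
  generalize a * f ^ i = b at q4 bz b2 by'
  obtain ⟨ba, bc, r23, r34, ry, r8⟩ := q4
  rw [Ne, h.eq_iff bz ha] at ba
  rw [Ne, h.eq_iff bz cz] at bc
  have db : z * y ∈ 𝐂[b] := mul_mem (mem_cent1_comm.1 bz) (mem_cent1_comm.1 by')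
  let γ := sel z (z * y) c b a 1
  have sq : ∀ i, γ i * γ i = 1 := fun i => match i with
    | 0 => z2 | 1 => d2 | 2 => c2 | 3 => b2 | 4 => a2 | _ + 5 => mul_one 1
  have E1 : ∀ w : List ℕ, (∀ i ∈ w, i ∈ [0, 1, 2, 4]) →
      evc (sel (κ' z) (κ' (z * y)) (κ' c) 0 60 0) w 0 = 0 → ev γ w 1 = 1 := fun w hw e =>
    h'.ev (c := sel (κ' z) (κ' (z * y)) (κ' c) 0 60 0) (fun i hi => by
      have := hw i hi
      simp only [List.mem_cons, List.not_mem_nil, or_false] at this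
      rcases this with rfl | rfl | rfl | rfl
      exacts [⟨za, rfl⟩, ⟨da, rfl⟩, ⟨ca, rfl⟩, ⟨mem_cent1_self a, h'.top⟩]) 1 (one_mem _) (h'.one ▸ e)
  have E2 : ∀ w : List ℕ, (∀ i ∈ w, i ∈ [0, 2, 3, 4]) → ∀ x ∈ 𝐂[z],
      evc (sel 60 0 (κ c) (κ b) (κ a) 0) w (κ x) = 0 → ev γ w x = 1 := fun w hw =>
    h.ev fun i hi => by
      have := hw i hi
      simp only [List.mem_cons, List.not_mem_nil, or_false] at this
      rcases this with rfl | rfl | rfl | rfl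
      exacts [⟨mem_cent1_self z, h.top⟩, ⟨cz, rfl⟩, ⟨bz, rfl⟩, ⟨ha, rfl⟩]
  have E3 : ∀ w : List ℕ, evc (sel 60 0 (κ c) (κ b) (κ a) 0) w 0 = 0 → (∀ i ∈ w, i ∈ [0, 2, 3, 4]) →
      ev γ w 1 = 1 := fun w e hw => E2 w hw 1 (one_mem _) (by rw [h.one]; exact e)
  replace r23 := E3 _ r23 (by decide)
  replace r34 := E3 _ r34 (by decide)
  replace ry := E3 _ ry (by split_ifs <;> decide)
  replace rx := E1 _ (by split_ifs <;> decide) rx
  replace r8 : ∀ x ∈ 𝐂[z], x ∈ 𝐂[b] → ∃ k < 8, ev γ (nth W8 k) x = 1 := fun x hx hx' =>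
    (r8 _ (h.lt _ hx) ((h.comm_iff hx bz).2 (mem_cent1.1 hx'))).imp fun k e =>
      ⟨e.1, E2 _ (W8_mem k e.1) x hx e.2⟩
  have r01 : ev γ [0, 1, 0, 1, 0, 1] 1 = 1 := by
    change 1 * z * (z * y) * z * (z * y) * z * (z * y) = 1
    rw [one_mul, zd, mul_assoc y, zd, mul_assoc _ z, zd, ← pow_three', ← y3, pow_orderOf_eq_one]
  obtain ⟨R3, R⟩ := all_rels sq r01 (mem_cent1.1 cz).symm (mem_cent1.1 bz).symm (mem_cent1.1 za)
    (E1 _ (by decide) r12) (mem_cent1.1 db) (mem_cent1.1 da) r23 (mem_cent1.1 ca) r34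
  obtain ⟨u1, u2⟩ := central sq rfl R3
  have xe : ev γ ([1, 0] ++ w0 ++ [0, 1]) 1 = y⁻¹ * ev γ w0 1 * y := by
    rw [ev_append, ev_append, ev_eq w0]
    change 1 * (z * y) * z * _ * z * (z * y) = _
    rw [one_mul, mul_assoc _ z (z * y), zd, ← zy, inv_eq z2]
  have yzy : y * z * y⁻¹ = z * y := by
    rw [← mul_right_inj z, zd, ← mul_assoc, ← mul_assoc]
    nth_rewrite 2 [← inv_eq z2]
    rw [zy, ← mul_inv_rev, inv_eq_iff_mul_eq_one, ← pow_three', ← y3, pow_orderOf_eq_one]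
  obtain ⟨k, hk, e⟩ := r8 (y⁻¹ * ev γ w0 1 * y) (by
      rw [← mem_conj, ← cent1_conj, yzy]; exact mem_cent1.2 u2)
    (mul_mem (mul_mem (inv_mem (mem_cent1_comm.1 by')) (mem_cent1.2 u1)) (mem_cent1_comm.1 by'))
  rw [← xe, ← ev_append] at e
  have main : ∀ w ∈ rels xI yI w0, ev γ w 1 = 1 := by
    by_cases p : κ a < 60
    · rw [if_pos p] at ry
      rw [if_neg (by tauto)] at rx
      refine absurd (?_ : γ 3 = γ 4) ba
      interval_cases k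
      exacts [collapse sq rfl (R rx ry e) colII_000, collapse sq rfl (R rx ry e) colII_001,
        collapse sq rfl (R rx ry e) colII_010, collapse sq rfl (R rx ry e) colII_011,
        collapse sq rfl (R rx ry e) colII_100, collapse sq rfl (R rx ry e) colII_101,
        collapse sq rfl (R rx ry e) colII_110, collapse sq rfl (R rx ry e) colII_111]
    · rw [if_neg p] at ry
      rw [if_pos (by tauto)] at rx
      by_cases k0 : k = 0
      · subst k0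
        rw [ev_append, xe] at e
        replace e : y⁻¹ * ev γ w0 1 * y = 1 := e
        exact R rx ry (conj_eq_one_iff.1 (by rwa [inv_inv] : y⁻¹ * _ * y⁻¹⁻¹ = 1))
      refine absurd (?_ : γ 3 = γ 4) ba
      interval_cases k
      exacts [absurd rfl k0, collapse sq rfl (R rx ry e) colI_001,
        collapse sq rfl (R rx ry e) colI_010, collapse sq rfl (R rx ry e) colI_011,
        collapse sq rfl (R rx ry e) colI_100, collapse sq rfl (R rx ry e) colI_101,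
        collapse sq rfl (R rx ry e) colI_110, collapse sq rfl (R rx ry e) colI_111]
  refine ⟨γ, sq, rfl, a1, main, fun K hK => ?_⟩
  have hK' : ∀ i, γ i ∈ K := fun i => match i with
    | 0 => hK 0 (by decide) | 1 => hK 1 (by decide) | 2 => hK 2 (by decide) | 3 => hK 3 (by decide)
    | 4 => hK 4 (by decide) | _ + 5 => one_mem K
  refine top_of hG z1 z2 hf f5 y3 yf ha a2 af hN (inf_eq_left.1 (eq_of_le_of_card_le inf_le_left
    (Nat.le_of_dvd (card_pos' _) ?_))) (zd ▸ mul_mem (hK' 0) (hK' 1))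
  have : Fact (Nat.Prime 5) := ⟨by decide⟩
  have o3 : orderOf (c * b) = 3 := orderOf_eq_prime (by
    simpa [ev_cons, ev_nil, γ, sel, pow_succ, mul_assoc] using r23)
    fun e => bc (by rw [eq_inv_of_mul_eq_one_right e, inv_eq c2])
  have o5 : orderOf (b * a) = 5 := orderOf_eq_prime (by
    simpa [ev_cons, ev_nil, γ, sel, pow_succ, mul_assoc] using r34)
    fun e => ba (by rw [eq_inv_of_mul_eq_one_left e, inv_eq a2])
  have d3 := o3 ▸ orderOf_dvd_card (H := 𝐂[z] ⊓ K) ⟨mul_mem cz bz, mul_mem (hK' 2) (hK' 3)⟩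
  have d5 := o5 ▸ orderOf_dvd_card (H := 𝐂[z] ⊓ K) ⟨mul_mem bz ha, mul_mem (hK' 3) (hK' 4)⟩
  obtain ⟨T, hT, hle⟩ := exists_syl_ge le_top (isPGroup_sup (two_elt b2) (two_elt z2)
    (.inl (le_norm_of_le_cent (by rwa [cent_zpowers, zpowers_le]))))
  have d8 := card_syl hG hT ▸ card_dvd (K := 𝐂[z] ⊓ K) fun x hx => by
    have x1 := two_le_cent hG hT.isPGroup (hle (mem_sup_right (mem_zpowers z))) hx
    obtain ⟨k, -, e⟩ := r8 x x1 (two_le_cent hG hT.isPGroup (hle (mem_sup_left (mem_zpowers b))) hx)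
    rw [ev_eq] at e
    exact ⟨x1, eq_inv_of_mul_eq_one_left e ▸ K.inv_mem (ev_mem hK' _ 1 (one_mem K))⟩
  rw [(exists_model hG z1 z2).1]
  omega

end Cfsg.Agent.JO
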