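import Cfsg.Agent.Lib.JO.Table
import Cfsg.Agent.Lib.OO.BasicE

/-!
# Centralizers `2 × A₅` in coordinates, words, and the consequences of the coset enumerations
-/

set_option autoImplicit false

namespace Cfsg.Agent.JO

open Subgroup Cfsg.Agent.OO Cfsg.Agent.Coprime

universe u

variable {G : Type u} [Group G] {t x y : G} {κ : G → ℕ}

theorem dig_code (σ : Equiv.Perm (Fin 5)) (s : ℕ) (i : Fin 5) : dig (code σ s) i = σ i := by
  have := (σ 0).2; have := (σ 1).2; have := (σ 2).2; have := (σ 3).2; have := (σ 4).2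
  fin_cases i <;> simp [dig, code] <;> omega

theorem code_div (σ : Equiv.Perm (Fin 5)) (s : ℕ) : code σ s / 32768 = s := by
  have := (σ 0).2; have := (σ 1).2; have := (σ 2).2; have := (σ 3).2; have := (σ 4).2
  unfold code; omega

theorem pm_code (σ τ : Equiv.Perm (Fin 5)) (s s' : ℕ) :
    pm (code σ s) (code τ s') = code (σ * τ) ((s + s') % 2) := by
  have h0 : dig (code τ s') 0 = τ 0 := dig_code τ s' 0
  have h1 : dig (code τ s') 1 = τ 1 := dig_code τ s' 1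
  have h2 : dig (code τ s') 2 = τ 2 := dig_code τ s' 2
  have h3 : dig (code τ s') 3 = τ 3 := dig_code τ s' 3
  have h4 : dig (code τ s') 4 = τ 4 := dig_code τ s' 4
  rw [pm, h0, h1, h2, h3, h4, code_div, code_div]
  simp only [dig_code]
  rfl

theorem code_inj {σ τ : Equiv.Perm (Fin 5)} {s s' : ℕ} (h : code σ s = code τ s') : σ = τ ∧ s = s' :=
  ⟨Equiv.ext fun i => Fin.ext (by rw [← dig_code σ s, h, dig_code]), by rw [← code_div σ s, h, code_div]⟩

/-- `κ` numbers the centralizer of `t` compatibly with the table of `2 × A₅` -/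
structure Mdl (t : G) (κ : G → ℕ) : Prop where
  lt : ∀ x ∈ 𝐂[t], κ x < 120
  mul : ∀ x ∈ 𝐂[t], ∀ y ∈ 𝐂[t], κ (x * y) = mu (κ x) (κ y)
  inj : ∀ x ∈ 𝐂[t], ∀ y ∈ 𝐂[t], κ x = κ y → x = y
  surj : ∀ k < 120, ∃ x ∈ 𝐂[t], κ x = k
  top : κ t = 60

theorem exists_mdl [Finite G] {L : Subgroup G} (hL : L ≤ 𝐂[t]) (tL : t ∉ L) (t2 : t * t = 1)
    (hc : ♯𝐂[t] = 120) (e : L ≃* alternatingGroup (Fin 5)) : ∃ κ, Mdl t κ := by
  have cL : ♯L = 60 := by rw [Nat.card_congr e.toEquiv, nat_card_alternatingGroup]; simp [Nat.factorial]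
  have hi : (L.subgroupOf 𝐂[t]).index = 2 := by
    have := card_mul_relIndex hL
    rw [cL, hc] at this
    change L.relIndex _ = 2
    omega
  have p2 : ∀ s, t ^ s = t ^ (s % 2) := fun s => pow_eq_pow_mod s (by rw [sq, t2])
  have ex : ∀ x, ∃ k, x ∈ 𝐂[t] → k < 120 ∧ ∃ l : L, ∃ s < 2, x = l * t ^ s ∧ cd k = code (e l).1 s := by
    intro x
    by_cases hx : x ∈ 𝐂[t]
    swap
    · exact ⟨0, fun h => absurd h hx⟩
    by_cases h : x ∈ L
    · obtain ⟨k, h1, h2⟩ := (cd_surj _ (e ⟨x, h⟩).2).1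
      exact ⟨k, fun _ => ⟨h1, ⟨x, h⟩, 0, by decide, by simp, h2⟩⟩
    · have h' : x * t ∈ L := ((mul_mem_iff_of_index_two hi (a := ⟨x, hx⟩) (b := ⟨t, mem_cent1_self t⟩)).2
        (iff_of_false h tL) :)
      obtain ⟨k, h1, h2⟩ := (cd_surj _ (e ⟨_, h'⟩).2).2
      exact ⟨k, fun _ => ⟨h1, ⟨_, h'⟩, 1, by decide, by simp [mul_assoc, t2], h2⟩⟩
  choose κ hκ using ex
  have un : ∀ (x : G) (hx : x ∈ 𝐂[t]) (l : L) (s : ℕ), s < 2 → x = l * t ^ s →
      cd (κ x) = code (e l).1 s := by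
    intro x hx l s hs h
    obtain ⟨-, l', s', hs', h', e'⟩ := hκ x hx
    rw [h'] at h
    obtain rfl : s = s' := by
      interval_cases s <;> interval_cases s' <;> simp only [pow_zero, pow_one, mul_one] at h
      · rfl
      · exact absurd ((mul_mem_cancel_left l'.2).1 (h ▸ l.2)) tL
      · exact absurd ((mul_mem_cancel_left l.2).1 (h ▸ l'.2)) tL
      · rfl
    rw [e', Subtype.ext (mul_right_cancel h)]
  have inj : ∀ x ∈ 𝐂[t], ∀ y ∈ 𝐂[t], κ x = κ y → x = y := fun x hx y hy h => by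
    obtain ⟨-, l, s, -, h1, e1⟩ := hκ x hx
    obtain ⟨-, l', s', -, h2, e2⟩ := hκ y hy
    obtain ⟨e3, rfl⟩ := code_inj (e1.symm.trans (h ▸ e2))
    rw [h1, h2, e.injective (Subtype.ext e3)]
  refine ⟨κ, fun x hx => (hκ x hx).1, fun x hx y hy => ?_, inj, fun k hk => ?_, ?_⟩
  · obtain ⟨k1, l, s, -, h1, e1⟩ := hκ x hx
    obtain ⟨k2, l', s', -, h2, e2⟩ := hκ y hy
    obtain ⟨k3, e3⟩ := tbl _ k1 _ k2
    refine cd_inj _ (hκ _ (mul_mem hx hy)).1 _ k3 ?_
    rw [e3, e1, e2, pm_code, un _ (mul_mem hx hy) (l * l') _ (Nat.mod_lt (s + s') two_pos), map_mul]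
    · rfl
    · have : Commute (l' : G) t := mem_cent1.1 (hL l'.2)
      rw [h1, h2, ← p2, pow_add, coe_mul, mul_assoc, mul_assoc, ← mul_assoc (t ^ s),
        ← (this.pow_right s).eq, mul_assoc]
  · let φ : 𝐂[t] → Fin 120 := fun x => ⟨κ x, (hκ x x.2).1⟩
    have : Function.Injective φ := fun x y h => Subtype.ext (inj _ x.2 _ y.2 (congrArg Fin.val h))
    obtain ⟨x, hx⟩ := (this.bijective_of_nat_card_le (by simp [hc])).2 ⟨k, hk⟩
    exact ⟨x, x.2, congrArg Fin.val hx⟩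
  · refine cd_inj _ (hκ _ (mem_cent1_self t)).1 _ (by decide) ?_
    rw [un _ (mem_cent1_self t) 1 1 (by decide) (by simp), map_one, cd_top]
    rfl

/-- multiply `x` by the word `w` -/
def ev (γ : ℕ → G) (w : List ℕ) (x : G) : G := run (fun h y => y * γ h) w x

namespace Mdl

variable (h : Mdl t κ)
include h

theorem one : κ 1 = 0 := idem _ (h.lt _ (one_mem _)) (by rw [← h.mul _ (one_mem _) _ (one_mem _), mul_one])

theorem eq_iff (hx : x ∈ 𝐂[t]) (hy : y ∈ 𝐂[t]) : κ x = κ y ↔ x = y := ⟨h.inj x hx y hy, congrArg κ⟩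

theorem zero_iff (hx : x ∈ 𝐂[t]) : κ x = 0 ↔ x = 1 := by rw [← h.one, h.eq_iff hx (one_mem _)]

theorem top_iff (hx : x ∈ 𝐂[t]) : κ x = 60 ↔ x = t := by rw [← h.top, h.eq_iff hx (mem_cent1_self t)]

theorem mul_top (hx : x ∈ 𝐂[t]) : mu (κ x) 60 = κ (x * t) := by
  rw [h.mul _ hx _ (mem_cent1_self t), h.top]

theorem sq_iff (hx : x ∈ 𝐂[t]) : mu (κ x) (κ x) = 0 ↔ x * x = 1 := by
  rw [← h.mul _ hx _ hx, h.zero_iff (mul_mem hx hx)]

theorem comm_iff (hx : x ∈ 𝐂[t]) (hy : y ∈ 𝐂[t]) :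
    mu (κ x) (κ y) = mu (κ y) (κ x) ↔ x * y = y * x := by
  rw [← h.mul _ hx _ hy, ← h.mul _ hy _ hx, h.eq_iff (mul_mem hx hy) (mul_mem hy hx)]

theorem pow (hx : x ∈ 𝐂[t]) (n : ℕ) : pw (κ x) n = κ (x ^ n) := by
  induction n with
  | zero => rw [pow_zero, h.one]; rfl
  | succ n ih => rw [pow_succ, h.mul _ (pow_mem hx n) _ hx, ← ih]; rfl

theorem pow_iff (hx : x ∈ 𝐂[t]) (n : ℕ) : pw (κ x) n = 0 ↔ x ^ n = 1 := by
  rw [h.pow hx, h.zero_iff (pow_mem hx n)]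

theorem conj (g : G) : Mdl (g * t * g⁻¹) fun x => κ (g⁻¹ * x * g) := by
  have m : ∀ {x}, x ∈ 𝐂[g * t * g⁻¹] → g⁻¹ * x * g ∈ 𝐂[t] := fun hx => by
    rwa [cent1_conj, mem_conj] at hx
  refine ⟨fun x hx => h.lt _ (m hx), fun x hx y hy => ?_, fun x hx y hy e => ?_, fun k hk => ?_, ?_⟩
  · rw [← h.mul _ (m hx) _ (m hy)]; congr 1; group
  · simpa using h.inj _ (m hx) _ (m hy) e
  · obtain ⟨x, hx, rfl⟩ := h.surj k hk
    exact ⟨g * x * g⁻¹, by rw [cent1_conj]; exact conj_mem_conj hx, by congr 1; group⟩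
  · rw [← h.top]; congr 1; group

theorem ev {γ : ℕ → G} {c : ℕ → ℕ} {w : List ℕ} (H : ∀ i ∈ w, γ i ∈ 𝐂[t] ∧ κ (γ i) = c i) :
    ∀ x ∈ 𝐂[t], evc c w (κ x) = 0 → ev γ w x = 1 := by
  induction w with
  | nil => exact fun x hx e => (h.zero_iff hx).1 e
  | cons i w ih =>
    intro x hx e
    obtain ⟨h1, h2⟩ := H i (by simp)
    exact ih (fun j hj => H j (by simp [hj])) _ (mul_mem hx h1) (by rw [h.mul _ hx _ h1, h2]; exact e)

end Mdl

section Words

variable {γ : ℕ → G} {v w : List ℕ}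

theorem ev_cons (i : ℕ) (w : List ℕ) (x : G) : ev γ (i :: w) x = ev γ w (x * γ i) := rfl

theorem ev_nil (x : G) : ev γ [] x = x := rfl

theorem ev_eq (w : List ℕ) : ∀ x : G, ev γ w x = x * ev γ w 1 := by
  induction w with
  | nil => simp [ev_nil]
  | cons i w ih => intro x; rw [ev_cons, ev_cons, ih, ih (1 * _), one_mul, mul_assoc]

theorem ev_append (v w : List ℕ) (x : G) : ev γ (v ++ w) x = ev γ w (ev γ v x) := List.foldl_append

theorem ev_mem {K : Subgroup G} (H : ∀ i, γ i ∈ K) (w : List ℕ) : ∀ x ∈ K, ev γ w x ∈ K := by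
  induction w with
  | nil => exact fun _ h => h
  | cons i w ih => exact fun x hx => ih _ (mul_mem hx (H i))

variable (sq : ∀ i, γ i * γ i = 1)
include sq

theorem ev_reverse (w : List ℕ) : ev γ w.reverse 1 = (ev γ w 1)⁻¹ := by
  induction w with
  | nil => simp [ev_nil]
  | cons i w ih =>
    rw [List.reverse_cons, ev_append, ih, ev_cons, ev_cons, ev_nil, ev_eq w (1 * _), one_mul, mul_inv_rev,
      inv_eq_of_mul_eq_one_right (sq i)]

theorem run_conj (w : List ℕ) : ∀ x : G,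
    run (fun g y => γ g * y * γ g) w x = (ev γ w 1)⁻¹ * x * ev γ w 1 := by
  induction w with
  | nil => simp [ev_nil, run]
  | cons i w ih =>
    intro x
    rw [ev_cons, ev_eq, one_mul, mul_inv_rev, inv_eq_of_mul_eq_one_right (sq i)]
    exact (ih _).trans (by simp only [mul_assoc])

theorem conj_conj (g : ℕ) (x : G) : γ g * (γ g * x * γ g) * γ g = x := by
  rw [← mul_assoc, ← mul_assoc, sq, one_mul, mul_assoc, sq, mul_one]

theorem comm_of_ev {i j : ℕ} (h : ev γ [i, j, i, j] 1 = 1) : γ i * γ j * γ i = γ j := by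
  simp only [ev_cons, ev_nil, one_mul] at h
  rw [eq_inv_of_mul_eq_one_left h, inv_eq_of_mul_eq_one_right (sq j)]

theorem ev_of_comm {i j : ℕ} (h : γ i * γ j = γ j * γ i) : ev γ [i, j, i, j] 1 = 1 := by
  simp only [ev_cons, ev_nil, one_mul]
  rw [h, mul_assoc (γ j), sq, mul_one, sq]

variable (h7 : γ 7 = 1)
include h7

/-- the longest element of `H₃` is central -/
theorem central (H : ∀ r ∈ rels3, ev γ r 1 = 1) :
    ev γ w0 1 * γ 3 = γ 3 * ev γ w0 1 ∧ ev γ w0 1 * γ 1 = γ 1 * ev γ w0 1 := by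
  have key : ∀ i, ev γ (w0 ++ [i] ++ w0.reverse ++ [i]) 1 = 1 → ev γ w0 1 * γ i = γ i * ev γ w0 1 := by
    intro i e
    rw [ev_append, ev_append, ev_append, ev_eq w0.reverse, ev_reverse sq] at e
    simp only [ev_cons, ev_nil] at e
    rw [← mul_inv_eq_iff_eq_mul, eq_inv_of_mul_eq_one_left e, inv_eq_of_mul_eq_one_right (sq i)]
  have a2 : ∀ (g : ℕ) (x : G), x * γ g * γ g = x := fun g x => by rw [mul_assoc, sq, mul_one]
  have a7 : ∀ x : G, x * γ 7 = x := fun x => by rw [h7, mul_one]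
  have aR : ∀ r ∈ rels3, ∀ x, run (fun h y => y * γ h) r x = x := fun r hr x =>
    (ev_eq r x).trans (by rw [H r hr, mul_one])
  exact ⟨key 3 (cert_spec a2 a7 aR (by simp) cen_b), key 1 (cert_spec a2 a7 aR (by simp) cen_d)⟩

variable {p q r : List ℕ} (H : ∀ w ∈ rels p q r, ev γ w 1 = 1)
include H

omit h7 in
theorem rel_conj : (∀ w ∈ rels p q r, ∀ x, run (fun g y => γ g * y * γ g) w x = x) ∧
    ∀ g ∈ [0, 1, 2, 4], γ g * γ 4 * γ g = γ 4 := by
  refine ⟨fun w hw x => by simp [run_conj sq, H w hw], ?_⟩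
  simp only [List.forall_mem_cons, List.not_mem_nil, false_imp_iff, implies_true, and_true]
  exact ⟨comm_of_ev sq (H _ (by simp [rels])), comm_of_ev sq (H _ (by simp [rels])),
    comm_of_ev sq (H _ (by simp [rels])), by rw [sq, one_mul]⟩

theorem collapse {D F P b d n m c : ℕ} (h : Cert (rels p q r) [0, 1, 2, 4] [3] D F P b d n m c = true) :
    γ 3 = γ 4 := by
  have e : γ 3 * γ 4 * γ 3 = γ 4 := cert_spec (ap := fun g y => γ g * y * γ g) (conj_conj sq)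
    (fun x => by simp [h7]) (rel_conj sq H).1 (rel_conj sq H).2 h
  have e' := H [3, 4, 3, 4, 3, 4, 3, 4, 3, 4] (by simp [rels])
  simp only [ev_cons, ev_nil, one_mul] at e'
  rw [e, sq, one_mul, e, sq, one_mul] at e'
  rw [eq_inv_of_mul_eq_one_left e', inv_eq_of_mul_eq_one_right (sq 4)]

end Words

theorem table {γ : ℕ → G} (sq : ∀ i, γ i * γ i = 1) (h7 : γ 7 = 1)
    (H : ∀ w ∈ rels xI yI w0, ev γ w 1 = 1) : ∃ p : ℕ → G, p 0 = γ 4 ∧ ∀ u < 1463, ∀ g < 5,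
      tab tF tI g u < 1463 ∧ γ g * p u * γ g = p (tab tF tI g u) :=
  ⟨_, pt_zero _ _ tD, fun _ hu _ hg => tab_spec (ap := fun g y => γ g * y * γ g) (conj_conj sq)
    (check_spec (conj_conj sq) (fun x => by simp [h7]) (rel_conj sq H).1 (rel_conj sq H).2 main_ok)
    tab_ok hu hg⟩

end Cfsg.Agent.JO
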