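import Cfsg.Agent.S4069
import Cfsg.Agent.Lib.E8.HallNum
import Cfsg.Agent.Lib.Core.Ord1092
import Cfsg.Agent.Lib.Reg.FrobCount
import Cfsg.Agent.Lib.JO.Model

/-!
# A simple group of order `175560` has one class of involutions, with centralizer `2 × A₅`
-/

set_option autoImplicit false

namespace Cfsg.Agent.JO

open Subgroup Cfsg.Agent.OO Cfsg.Agent.Coprime GW ZG
open scoped commutatorElement Pointwise MatrixGroups

universe u

variable {G : Type u} [Group G] [Finite G] {H K P T : Subgroup G} {s t x y : G}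

theorem prime_cases {p : ℕ} (hp : p.Prime) (h : p ∣ 175560) :
    p = 2 ∨ p = 3 ∨ p = 5 ∨ p = 7 ∨ p = 11 ∨ p = 19 := by
  simpa using (Nat.mem_primeFactorsList (by decide)).2 ⟨hp, h⟩

theorem alm_of (h : ∀ P : Subgroup G, IsPGroup 2 P → ∃ a ∈ P, ♯P ≤ 2 * orderOf a) : Alm G := by
  intro P hP
  obtain ⟨a, ha, e⟩ := h P hP
  refine ⟨a, ha, fun x hx y hy e1 e2 => ?_⟩
  have h1 := card_mul_relIndex (zpowers_le.2 ha)
  rw [Nat.card_zpowers] at h1
  have h2 : (zpowers a).relIndex P ≤ 2 :=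
    Nat.le_of_mul_le_mul_left (by rw [h1, mul_comm]; exact e) (orderOf_pos a)
  have h3 := relIndex_pos (zpowers a) P
  have h4 : (zpowers a).relIndex P ≠ 1 := fun e => e1 (relIndex_eq_one.1 e hx)
  exact ((mul_mem_iff_of_index_two (H := (zpowers a).subgroupOf P) (a := ⟨x, hx⟩) (b := ⟨y, hy⟩)
    (show (zpowers a).relIndex P = 2 by omega)).2 (iff_of_false e1 e2) :)

theorem alm_small (hP : IsPGroup 2 P) (h : ¬ 8 ∣ ♯P) : ∃ a ∈ P, ♯P ≤ 2 * orderOf a := by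
  obtain ⟨k, hk⟩ := IsPGroup.iff_card.1 hP
  have : k < 3 := by_contra fun e => h (hk ▸ pow_dvd_pow 2 (not_lt.1 e))
  by_cases e : k = 0
  · exact ⟨1, one_mem _, by simp [hk, e]⟩
  · obtain ⟨a, ha, e'⟩ := cauchy Nat.prime_two (hk ▸ dvd_pow_self 2 e)
    exact ⟨a, ha, by rw [e', hk]; interval_cases k <;> simp⟩

theorem cyc (hG : Nat.card G ∣ 175560) : Cyc G := fun p hp h2 P hP => by
  have := Fact.mk hp
  obtain ⟨k, hk⟩ := IsPGroup.iff_card.1 hP
  have h := hk ▸ (card_subgroup_dvd_card P).trans hG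
  rcases k with _ | _ | k
  · exact card_eq_one_iff.1 hk ▸ inferInstance
  · exact isCyclic_of_prime (by rwa [hk, zero_add, pow_one])
  · have h' := (pow_dvd_pow p (by omega : 2 ≤ k + 1 + 1)).trans h
    rcases prime_cases hp ((dvd_pow_self p two_ne_zero).trans h') with e | e | e | e | e | e <;>
      subst e <;> omega

theorem exists_L (hG : Nat.card G ∣ 175560) (hs : ¬ Sol (⊤ : Subgroup G)) (hA : Alm G) :
    ∃ L : Subgroup G, L ⊴ ⊤ ∧ (Nonempty (L ≃* alternatingGroup (Fin 5)) ∨ ♯L = 660 ∨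
      8 ∣ ♯L ∧ ♯L ≤ 1320) := by
  obtain ⟨X, L, -, hL, -, -, -, p, hp, h5, h⟩ := struct hs (cyc hG) hA
  refine ⟨L, hL, ?_⟩
  have hd := (card_subgroup_dvd_card L).trans hG
  have d9 : ¬ 9 ∣ ♯L := fun e => absurd (e.trans hd) (by decide)
  have d16 : ¬ 16 ∣ ♯L := fun e => absurd (e.trans hd) (by decide)
  have c1 := Lin.card_SL2 (F := ZMod p)
  have c2 := (center SL(2, ZMod p)).card_mul_index
  rw [E8.card_center_SL2 p fun e => by
    have : (-1 : ZMod p) = 1 := by simpa using congrArg (fun A : SL(2, ZMod _) => A.1 0 0) e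
    have h2 : ((2 : ℕ) : ZMod p) = 0 := by push_cast; linear_combination -this
    exact absurd (Nat.le_of_dvd two_pos ((ZMod.natCast_eq_zero_iff _ _).1 h2)) (by omega), c1,
    index_eq_card] at c2
  rw [ZMod.card] at c1 c2
  rcases h with ⟨⟨e⟩⟩ | ⟨⟨e⟩⟩
  · rw [← Nat.card_congr e.toEquiv] at c2
    have : p ∣ ♯L := ((Nat.coprime_primes hp.out Nat.prime_two).2 (by omega)).dvd_of_dvd_mul_left
      (c2 ▸ dvd_mul_right _ _)
    rcases prime_cases hp.out (this.trans hd) with e | e | e | e | e | e <;> subst e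
    any_goals omega
    obtain ⟨g, h1, h2⟩ := E8.exists_hom_SL5
    exact Or.inl ⟨e.trans ((QuotientGroup.quotientMulEquivOfEq h2.symm).trans
      (QuotientGroup.quotientKerEquivOfSurjective g h1))⟩
  · rw [← Nat.card_congr e.toEquiv] at c1
    rcases prime_cases hp.out ((Dvd.intro _ c1.symm).trans hd) with h | h | h | h | h | h <;>
      subst h <;> omega

theorem not_der (hT : Syl 2 T H) (hab : Ab T) (hx : x ∈ T) (hN : H ⊓ 𝐍(T) ≤ 𝐂[x]) (hd : x ∈ der H) :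
    x = 1 := by
  obtain ⟨S, hS, -⟩ := hT.exists_sylow
  have : IsMulCommutative (S : Subgroup H) := hS ▸ ab_iff.2 fun a ha b hb =>
    Subtype.ext (ab_iff.1 hab _ ha _ hb)
  refine congrArg Subtype.val (BSW.eq_one_of_transfer S (x := ⟨x, hT.le hx⟩) (hS ▸ hx) (fun n hn => ?_) ?_)
  · refine Subtype.ext (mem_cent1.1 (hN ⟨n.2, mem_norm_of_conj_mem fun y hy => ?_⟩))
    rw [hS] at hn
    exact conj_mem_of_norm hn (x := ⟨y, hT.le hy⟩) hy
  · rwa [der_eq_map, ← show H.subtype ⟨x, hT.le hx⟩ = x from rfl,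
      mem_map_iff_mem (subtype_injective _)] at hd

theorem nums : ∀ m < 1200, 21945 % m = 0 → (21945 / m + 1) % 8 = 0 → 19 ≤ 21945 / m →
    m = 7 ∨ m = 15 ∨ m = 55 ∨ m = 95 ∨ m = 231 ∨ m = 399 := by decide +kernel

variable [IsSimpleGroup G] (hG : Nat.card G = 175560)
include hG

theorem le_index (hK : K ≠ ⊤) : 19 ≤ K.index := by
  have h1 : K.normalCore = ⊥ := (IsSimpleGroup.eq_bot_or_eq_top_of_normal _ inferInstance).resolve_right
    fun e => hK (eq_top_iff.2 (e ▸ K.normalCore_le))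
  rw [normalCore_eq_ker, MonoidHom.ker_eq_bot_iff] at h1
  have h2 := card_dvd_of_injective _ h1
  have := Fintype.ofFinite (G ⧸ K)
  classical
  rw [hG, Nat.card_perm] at h2
  exact (Nat.Prime.dvd_factorial (by norm_num)).1 ((by norm_num : 19 ∣ 175560).trans h2)

theorem hna : ¬ IsMulCommutative G := fun _ => by
  obtain ⟨x, hx⟩ := exists_prime_orderOf_dvd_card' (G := G) 2 (by omega)
  have := Nat.card_zpowers x
  rcases IsSimpleGroup.eq_bot_or_eq_top_of_normal (zpowers x) inferInstance with e | e <;>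
    rw [e, hx] at this
  · simp at this
  · rw [card_top] at this; omega

theorem cent_ne_top (h : t ≠ 1) : 𝐂[t] ≠ ⊤ := fun e => by
  rcases IsSimpleGroup.eq_bot_or_eq_top_of_normal (center G) inferInstance with e' | e'
  · exact h (mem_bot.1 (e' ▸ mem_center_iff.2 fun g => mem_cent1.1 (e.ge (mem_top g))))
  · exact hna hG ⟨⟨fun a b => mem_center_iff.1 (e'.ge (mem_top b)) a⟩⟩

omit [IsSimpleGroup G] [Finite G] in
theorem syl_of_dvd (hP : IsPGroup 2 P) (h : 8 ∣ ♯P) : Syl 2 P ⊤ := ⟨le_top, hP, fun e => by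
  have := P.card_mul_index
  rw [relIndex_top_right] at e
  obtain ⟨a, ha⟩ := h
  obtain ⟨b, hb⟩ := e
  rw [ha, hb, hG, mul_mul_mul_comm] at this
  omega⟩

omit [IsSimpleGroup G] in
theorem card_syl (hT : Syl 2 T ⊤) : ♯T = 8 := by
  obtain ⟨k, hk⟩ := IsPGroup.iff_card.1 hT.isPGroup
  have h1 := T.card_mul_index
  have h2 := hT.not_dvd
  rw [relIndex_top_right] at h2
  rw [hk, hG] at h1
  have : k < 4 := by_contra fun e => by
    have := (pow_dvd_pow 2 (not_lt.1 e)).trans (Dvd.intro _ h1); omega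
  rw [hk]
  interval_cases k <;> omega

theorem four (x : G) (h : x ^ 4 = 1) : x ^ 2 = 1 := by
  by_contra e
  have ho : orderOf x = 4 := orderOf_eq_prime_pow (p := 2) (n := 1) e h
  obtain ⟨L, hL, h⟩ := exists_L hG.dvd (not_sol' (hna hG)) (alm_of fun P hP => by
    by_cases h8 : 8 ∣ ♯P
    · obtain ⟨g, -, hg⟩ := (syl_of_dvd hG hP h8).exists_conj_le le_top
        (Core.isPGroup_zpowers_of_orderOf (p := 2) (k := 2) ho)
      exact ⟨_, hg (conj_mem_conj (mem_zpowers x)), by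
        rw [orderOf_conj, ho, card_syl hG (syl_of_dvd hG hP h8)]⟩
    · exact alm_small hP h8)
  have : ♯L = 1 ∨ ♯L = 175560 := (IsSimpleGroup.eq_bot_or_eq_top_of_normal L (normalIn_top.1 hL)).imp
    (fun e => by rw [e, card_bot]) fun e => by rw [e, card_top, hG]
  rcases h with ⟨⟨e⟩⟩ | h | h
  · rw [Nat.card_congr e.toEquiv, nat_card_alternatingGroup] at this
    simp [Nat.factorial] at this
  all_goals omega

theorem sq_of_two (hP : IsPGroup 2 P) (s : G) (hs : s ∈ P) : s * s = 1 := by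
  obtain ⟨k, hk⟩ := hP ⟨s, hs⟩
  exact (sq s).symm.trans (E8.sq_eq_one_of_pow (four hG) (congrArg Subtype.val hk))

theorem ab_of_two (hP : IsPGroup 2 P) : Ab P := BSW.comm_of_mul_self (sq_of_two hG hP)

theorem two_le_cent (hP : IsPGroup 2 P) (ht : t ∈ P) : P ≤ 𝐂[t] :=
  (ab_of_two hG hP).le_cent.trans (cent_le_cent1 ht)

theorem tr (hT : Syl 2 T ⊤) (ht : t ∈ T) (t1 : t ≠ 1) (s : G) (hs : s ∈ T) (s1 : s ≠ 1) :
    ∃ g ∈ 𝐍(T), g * t * g⁻¹ = s := by
  let cls : G → Set G := fun u => {y | ∃ x ∈ 𝐍(T), x * u * x⁻¹ = y}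
  have h7 : ((T : Set G) \ {1}).ncard = 7 := by
    rw [Set.ncard_sdiff_singleton_of_mem T.one_mem, show Set.ncard _ = 8 from card_syl hG hT]
  have sub : ∀ u ∈ (T : Set G) \ {1}, cls u ⊆ (T : Set G) \ {1} := by
    rintro u hu _ ⟨x, hx, rfl⟩
    exact ⟨conj_mem_of_norm hx hu.1, BSW.conj_ne_one hu.2⟩
  have big : ∀ u ∈ (T : Set G) \ {1}, 3 ≤ (cls u).ncard ∧ ¬ 2 ∣ (cls u).ncard := by
    intro u hu
    rw [E8.ncard_cls]
    have h1 : ¬ 2 ∣ 𝐂[u].relIndex 𝐍(T) := fun e => (hT.mono (le_norm_self T) le_top).not_dvd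
      (e.trans (relIndex_dvd_of_le_left _ (two_le_cent hG hT.isPGroup hu.1)))
    have h2 : 𝐂[u].relIndex 𝐍(T) ≠ 1 := fun e => hu.2 (not_der hT (ab_of_two hG hT.isPGroup) hu.1
      (inf_le_right.trans (relIndex_eq_one.1 e)) (by
        rcases IsSimpleGroup.eq_bot_or_eq_top_of_normal _ (normalIn_top.1 (der_normal (⊤ : Subgroup G)))
          with e | e
        · exact absurd (sol_of_ab (ab_iff_der.2 e)) (not_sol' (hna hG))
        · exact e.ge (mem_top u)))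
    omega
  have dis : ∀ u v, u ∉ cls v → Disjoint (cls v) (cls u) := fun u v h => Set.disjoint_left.2 (by
    rintro _ ⟨x, hx, rfl⟩ ⟨y, hy, e⟩
    exact h ⟨y⁻¹ * x, mul_mem (inv_mem hy) hx, by rw [← mul_right_inj y, ← mul_left_inj y⁻¹, e]; group⟩)
  by_contra h
  have b1 := big t ⟨ht, t1⟩
  have b2 := big s ⟨hs, s1⟩
  have c1 := Set.ncard_union_eq (dis s t h)
  have s2 := Set.union_subset (sub t ⟨ht, t1⟩) (sub s ⟨hs, s1⟩)
  have c2 := Set.ncard_le_ncard s2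
  obtain ⟨u, hu, hu'⟩ := Set.exists_of_ssubset (s2.ssubset_of_ne fun e => by rw [e] at c1; omega)
  have b3 := big u hu
  have c3 := Set.ncard_union_eq (Set.disjoint_union_left.2
    ⟨dis u t fun e => hu' (Or.inl e), dis u s fun e => hu' (Or.inr e)⟩)
  have c4 := Set.ncard_le_ncard (Set.union_subset s2 (sub u hu))
  omega

theorem conj_inv (t1 : t ≠ 1) (t2 : t * t = 1) (s1 : s ≠ 1) (s2 : s * s = 1) : ∃ g, g * t * g⁻¹ = s := by
  obtain ⟨T, hT, ht⟩ := exists_syl_ge le_top (two_elt t2)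
  obtain ⟨g, -, hg⟩ := hT.exists_conj_le le_top (two_elt s2)
  obtain ⟨k, -, hk⟩ := tr hG hT (ht (mem_zpowers t)) t1 _ (hg (conj_mem_conj (mem_zpowers s)))
    (BSW.conj_ne_one s1)
  exact ⟨g⁻¹ * k, by rw [← mul_right_inj g, ← mul_left_inj g⁻¹, ← hk]; group⟩

variable (t1 : t ≠ 1) (t2 : t * t = 1)
include t1 t2

theorem card_cases : ♯𝐂[t] = 56 ∨ ♯𝐂[t] = 120 ∨ ♯𝐂[t] = 440 ∨ ♯𝐂[t] = 760 ∨ ♯𝐂[t] = 1848 ∨
    ♯𝐂[t] = 3192 := by
  obtain ⟨T, hT, ht⟩ := exists_syl_ge le_top (two_elt t2)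
  obtain ⟨m, hm⟩ := card_syl hG hT ▸ card_dvd (two_le_cent hG hT.isPGroup (ht (mem_zpowers t)))
  have h1 := 𝐂[t].card_mul_index
  have h2 := le_index hG (cent_ne_top hG t1)
  have h3 := Reg.gcd_dvd_card_pow_mem (G := G) 8 (Y := (· = 1)) (by simp)
  have h4 : {x : G | x ^ 8 = 1} = insert 1 {y | ∃ x ∈ (⊤ : Subgroup G), x * t * x⁻¹ = y} := by
    ext x
    refine ⟨fun hx => or_iff_not_imp_left.2 fun x1 => ?_, ?_⟩
    · obtain ⟨g, hg⟩ := conj_inv hG t1 t2 x1 ((sq x).symm.trans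
        (E8.sq_eq_one_of_pow (four hG) (k := 3) hx))
      exact ⟨g, trivial, hg⟩
    · rintro (rfl | ⟨g, -, rfl⟩)
      · simp
      · change (g * t * g⁻¹) ^ (2 * 4) = 1
        rw [pow_mul, sq, conj_sq t2, one_pow]
  rw [hG, show Nat.gcd 8 175560 = 8 by decide, show Nat.card {x : G // x ^ 8 = 1} = _ from Nat.card_coe_set_eq {x : G | x ^ 8 = 1}, h4,
    Set.ncard_insert_of_notMem (by rintro ⟨g, -, e⟩; exact BSW.conj_ne_one t1 e), E8.ncard_cls,
    relIndex_top_right] at h3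
  rw [hm, hG, mul_assoc] at h1
  have h5 : m * 𝐂[t].index = 21945 := by omega
  have h6 : 21945 / m = 𝐂[t].index := Nat.div_eq_of_eq_mul_right
    (Nat.pos_of_ne_zero (by rintro rfl; omega)) h5.symm
  have := nums m (by nlinarith) (h5 ▸ Nat.mul_mod_right _ _) (by rw [h6]; omega) (h6 ▸ h2)
  omega

theorem not_pnil : ¬ PNil 2 𝐂[t] := fun hp => by
  obtain ⟨S, hS, ht⟩ := exists_syl_ge le_top (two_elt t2)
  replace ht := ht (mem_zpowers t)
  have hO : ∀ N : Subgroup G, N.Normal → ¬ 2 ∣ ♯N → N = ⊥ := fun N hN h =>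
    (IsSimpleGroup.eq_bot_or_eq_top_of_normal N hN).resolve_right fun e => h (by
      rw [e, card_top, hG]; omega)
  have c8 := card_syl hG hS
  have sq := sq_of_two hG hS.isPGroup
  have hab := ab_of_two hG hS.isPGroup
  have hC : ∀ s ∈ S, S ≤ 𝐂[s] := fun s hs => two_le_cent hG hS.isPGroup hs
  have sd : ∀ s ∈ S, s ≠ 1 → IsSdprod (Op' 2 𝐂[s]) S 𝐂[s] := fun s hs s1 => by
    refine PNil.sdprod ?_ (hS.mono (hC s hs) le_top)
    obtain ⟨g, -, rfl⟩ := tr hG hS ht t1 s hs s1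
    exact cent1_conj g t ▸ hp.conj g
  obtain ⟨E, hE, hE'⟩ := Sig.complete_two (A := S) (θ := fun a => Op' 2 𝐂[a]) ⟨Nat.prime_two,
    ⟨hab, fun a ha => by rw [pow_two, sq a ha]⟩, c8.ge, fun a _ _ => Opi_le _ _,
    fun a _ _ => not_dvd_Op' _, fun a ha a1 => (hC a ha).trans (sd a ha a1).normal.2,
    fun a _ _ => sol_of_odd (odd_O _), fun a _ _ b hb b1 =>
      le_of_coprime_relIndex inf_le_right (sd b hb b1).normal.2 (by
        rw [(sd b hb b1).relIndex_left, c8]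
        exact (Nat.prime_two.coprime_iff_not_dvd.2 fun e =>
          not_dvd_Op' _ (e.trans (card_dvd inf_le_left))).symm.pow_right 3)⟩
  have hN : 𝐍(S) ≤ 𝐍(⨆ a ∈ (S : Set G) \ {1}, Op' 2 𝐂[a]) := fun x hx => mem_norm_of_conj_le (by
    rw [conj_eq_map, map_le_iff_le_comap]
    refine iSup₂_le fun a ha => map_le_iff_le_comap.1 (le_iSup₂_of_le (x * a * x⁻¹)
      ⟨conj_mem_of_norm hx ha.1, BSW.conj_ne_one ha.2⟩ ?_)
    rw [cent1_conj]
    exact (Opi_conj _ _ _).ge)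
  have hW : E8.Hyp (⨆ a ∈ (S : Set G) \ {1}, Op' 2 𝐂[a]) S t := ⟨fun e => hE.cop (e.trans (card_dvd
    (iSup₂_le fun a ha => hE' a ha.1 ha.2))), hS, sq, (le_norm_self S).trans hN, ht, t1,
    fun s hs s1 => (sd s hs s1).isProd.sup_eq.ge.trans (sup_le_sup_right
      (le_iSup₂_of_le (f := fun a (_ : a ∈ (S : Set G) \ {1}) => Op' 2 𝐂[a]) s ⟨hs, s1⟩ le_rfl) _),
    fun s hs s1 => (tr hG hS ht t1 s hs s1).imp fun _ e => ⟨hN e.1, e.2⟩⟩
  rcases hW.normal_or (hW.eq_bot hO (.inr c8)) (by omega) with e | ⟨u, hu⟩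
  · rcases IsSimpleGroup.eq_bot_or_eq_top_of_normal S (normalIn_top.1 ⟨le_top, e.ge⟩) with e | e
    · exact t1 (mem_bot.1 (e ▸ ht))
    · rw [e, card_top] at c8; omega
  · have := (E8.hypC_main hu sq (n := 3) c8).1
    omega

theorem not_mem_der : t ∉ der 𝐂[t] := fun h => by
  obtain ⟨T, hT, ht⟩ := exists_syl_ge (zpowers_le.2 (mem_cent1_self t)) (two_elt t2)
  exact t1 (not_der hT (ab_of_two hG hT.isPGroup) (ht (mem_zpowers t)) inf_le_left h)

theorem not_sol_cent : ¬ Sol 𝐂[t] := fun hs => by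
  have := mt pnil_two (not_pnil hG t1 t2)
  push Not at this
  obtain ⟨R, hR, h2, g, hg, hn, ho, hc⟩ := this
  obtain ⟨T, hT, hle⟩ := exists_syl_ge le_top (isPGroup_sup h2 (two_elt t2) (.inl (le_norm_of_le_cent
    (by rwa [cent_zpowers]))))
  have ht : t ∈ T := hle (mem_sup_right (mem_zpowers t))
  have hRT : R ≤ T := le_sup_left.trans hle
  have hTH := two_le_cent hG hT.isPGroup ht
  have c8 := card_syl hG hT
  have sq := sq_of_two hG hT.isPGroup
  rw [mem_cent_iff_conj] at hc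
  push Not at hc
  obtain ⟨x, hx, e⟩ := hc
  have v1 : g * x * g⁻¹ * x⁻¹ ∈ R := mul_mem (conj_mem_of_norm hn hx) (inv_mem hx)
  have d1 : g * x * g⁻¹ * x⁻¹ ∈ der 𝐂[t] := commutator_mem_commutator hg (hR hx)
  set v := g * x * g⁻¹ * x⁻¹ with hv
  have v2 := conj_mem_of_norm hn v1
  have n1 : v ≠ 1 := fun e' => e (mul_inv_eq_one.1 e')
  have n2 : g * v * g⁻¹ ∉ zpowers v := fun e' => by
    have e1 := ((mem_zp (sq _ (hRT v1))).1 e').resolve_left (BSW.conj_ne_one n1)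
    have e2 : g * x * g⁻¹ = v * x := by rw [hv]; group
    have e3 : g ^ 2 ∈ 𝐂[x] := mem_cent1_iff_conj.2 (by
      rw [show g ^ 2 * x * (g ^ 2)⁻¹ = g * (g * x * g⁻¹) * g⁻¹ by
        simp [pow_two, mul_assoc], e2, ← conj_mul, e1, e2,
        ← mul_assoc, sq _ (hRT v1), one_mul])
    exact e (mem_cent1_iff_conj.1 (zpowers_le.2 e3 (mem_zp_pow (Nat.coprime_two_left.2 ho))))
  have hV := E8.card_four sq (hRT v1) n1 (hRT v2) n2
  have hVd : zpowers v ⊔ zpowers (g * v * g⁻¹) ≤ T ⊓ der 𝐂[t] := sup_le (zpowers_le.2 ⟨hRT v1, d1⟩)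
    (zpowers_le.2 ⟨hRT v2, (der_normal _).conj_mem hg d1⟩)
  have h3 : zpowers v ⊔ zpowers (g * v * g⁻¹) < T ⊓ 𝐂(O 𝐂[t]) := by
    refine lt_of_le_of_ne (fun w hw => ⟨(hVd hw).1, (cyc hG.dvd).cent_of_der (odd_O _)
      (Opi_normal _ _).norm (hVd hw).2 ?_⟩) fun e' => not_mem_der hG t1 t2 (hVd (e'.ge
        ⟨ht, le_cent1_iff.1 (Opi_le _ _)⟩)).2
    exact Nat.card_zpowers w ▸ coprime_zp (odd_O _) (sq _ (hVd hw).1)
  have h4 : T ≤ 𝐂(O 𝐂[t]) := by
    have a1 := card_lt h3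
    have a2 := card_dvd (inf_le_left : T ⊓ 𝐂(O 𝐂[t]) ≤ T)
    rw [c8] at a2
    refine inf_eq_left.1 (eq_of_le_of_card_le inf_le_left ?_)
    have := Nat.le_of_dvd (by decide) a2
    generalize ♯(T ⊓ 𝐂(O 𝐂[t])) = n at *
    interval_cases n <;> omega
  have hT' := hT.mono hTH le_top
  have h5 : T ≤ Op 2 𝐂[t] := le_Op_of_le_Fit hT.isPGroup (le_trans (le_inf hTH
    (le_cent_Fit_of_forall fun p _ => by
      by_cases e : p = 2
      · subst e
        exact (ab_of_two hG hT.isPGroup).le_cent.trans (cent_anti (Op_le_syl hT'))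
      · exact h4.trans (cent_anti (Op_le_Op' e _)))) (cent_sub_Fitting hs))
  have h6 : 𝐂[t] ≤ 𝐍(T) := le_antisymm (Op_le_syl hT') h5 ▸ (Op_normal 2 _).norm
  have h7 := E8.ncard_cls 𝐍(T) t
  rw [show {y | ∃ x ∈ 𝐍(T), x * t * x⁻¹ = y} = (T : Set G) \ {1} from Set.ext fun y =>
    ⟨by rintro ⟨x, hx, rfl⟩; exact ⟨conj_mem_of_norm hx ht, BSW.conj_ne_one t1⟩,
      fun hy => tr hG hT ht t1 y hy.1 hy.2⟩, Set.ncard_sdiff_singleton_of_mem T.one_mem,
    show Set.ncard _ = 8 from c8] at h7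
  have h8 : ¬ 7 ∣ ♯𝐂[t] := fun e => absurd ((mul_dvd_mul e h7.dvd).trans
    (card_mul_relIndex h6 ▸ hG ▸ card_subgroup_dvd_card 𝐍(T))) (by decide)
  obtain ⟨y, hy, y5⟩ := cauchy (p := 5) (H := 𝐂[t]) (by decide) (by
    have := card_cases hG t1 t2; omega)
  have h9 := E8.dvd_ncard_conj (P := zpowers y) (k := 5) (A := (T : Set G) \ (T ⊓ 𝐂[y] : Subgroup G))
    (fun x hx a ha => ⟨conj_mem_of_norm (zpowers_le.2 (h6 hy) hx) ha.1, fun e => ha.2 ⟨ha.1, by
      have := conj_mem_of_norm' (le_norm_self _ (zpowers_le.2 (mem_cent1_self y) hx)) e.2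
      simpa [mul_assoc] using this⟩⟩) fun a ha => by
      have h1 := relIndex_dvd_card 𝐂[a] (zpowers y)
      rw [Nat.card_zpowers, y5, Nat.dvd_prime (by decide)] at h1
      exact (h1.resolve_left fun e => ha.2 ⟨ha.1, mem_cent1_comm.1
        (relIndex_eq_one.1 e (mem_zpowers y))⟩).symm.dvd
  rw [Set.ncard_sdiff (show ((T ⊓ 𝐂[y] : Subgroup G) : Set G) ⊆ T from inf_le_left (a := T)),
    show Set.ncard _ = 8 from c8] at h9
  have a2 := card_dvd (inf_le_left : T ⊓ 𝐂[y] ≤ T)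
  obtain ⟨r, n, hr, r2, h, -⟩ := ((cyc hG.dvd).nb (hna hG)).step (y := y) (by rw [y5]; decide)
    (by rw [y5]; decide) hT (inf_eq_left.1 (eq_of_le_of_card_le inf_le_left (by
      rw [c8] at a2 ⊢
      change 5 ∣ 8 - ♯(T ⊓ 𝐂[y]) at h9
      have := Nat.le_of_dvd (by decide) a2
      generalize ♯(T ⊓ 𝐂[y]) = n at *
      interval_cases n <;> omega)))
  rw [y5] at h
  exact r2 ((Nat.prime_dvd_prime_iff_eq hr Nat.prime_two).1 (hr.dvd_of_dvd_pow (n := 2) h))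

theorem exists_model : ♯𝐂[t] = 120 ∧ ∃ κ, Mdl t κ := by
  have h8 : ¬ 8 ∣ ♯(der 𝐂[t]) := fun e => by
    obtain ⟨T, hT⟩ := exists_syl 2 (der 𝐂[t])
    have hT' := syl_of_dvd hG hT.isPGroup (((Nat.coprime_two_left.2 (Nat.odd_iff.2
      (Nat.two_dvd_ne_zero.1 hT.not_dvd))).pow_left 3).dvd_of_dvd_mul_right
      (by rwa [card_mul_relIndex hT.le]))
    exact not_mem_der hG t1 t2 (hT.le (zpowers_le.1 (hT'.le_of_norm le_top (two_elt t2) (.inl
      (le_norm_of_le_cent (by rw [cent_zpowers]; exact hT.le.trans (der_le _)))))))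
  obtain ⟨L, -, h⟩ := exists_L (G := der 𝐂[t]) (hG ▸ card_subgroup_dvd_card _) (fun e =>
    not_sol_cent hG t1 t2 (sol_of_normal_of_quo (der_normal _) (map_subtype_top (der 𝐂[t]) ▸
      Core.isSolvable_map e _) (sol_of_ab (ab_quo_of_der_le le_rfl))))
    (alm_of fun P hP => alm_small hP fun e => h8 (e.trans (card_subgroup_dvd_card P)))
  have h1 := card_subgroup_dvd_card L
  have h2 := h1.trans (card_dvd (der_le 𝐂[t]))
  have h3 := card_cases hG t1 t2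
  rcases h with ⟨⟨e⟩⟩ | h | h
  · rw [Nat.card_congr e.toEquiv, nat_card_alternatingGroup] at h2
    replace h2 : 60 ∣ ♯𝐂[t] := by simpa [Nat.factorial] using h2
    have h4 : ♯𝐂[t] = 120 := by omega
    exact ⟨h4, exists_mdl ((map_subtype_le L).trans (der_le _))
      (fun e => not_mem_der hG t1 t2 (map_subtype_le L e)) t2 h4
      ((L.equivMapOfInjective _ (subtype_injective _)).symm.trans e)⟩
  · rw [h] at h2; omega
  · exact absurd (h.1.trans h1) h8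

end Cfsg.Agent.JO
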